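import Cfsg.Agent.H533.Wf.Inner

/-!
# S3826: the inner row under isomorphisms (all universes)

* `Cfg.map_equiv` : the configuration `Cfg p ⊤ C D` in `K` gives one in `K'`, for `e : K ≃* K'`;
* `IRow.congr`, `ARow.of_equiv` : `ARow p K` from `IRow p K'`.
-/

set_option autoImplicit false

namespace Cfsg.Agent.H963.Wf

open Subgroup Cfsg Cfsg.Agent.H533.Wf Cfsg.Agent.H533.T5

universe u v

theorem cfg_map {p : ℕ} {K : Type u} {K' : Type v} [Group K] [Group K'] [Finite K] (e : K ≃* K')
    {C D : Set K} (h : Cfg p (⊤ : Subgroup K) C D) :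
    Cfg p (⊤ : Subgroup K') (e.symm ⁻¹' C) (e.symm ⁻¹' D) where
  toHyp := h.toHyp.comap e.symm.toMonoidHom e.symm.injective
  ordC := fun c hc => by
    rw [← orderOf_injective e.symm.toMonoidHom e.symm.injective c]
    exact h.ordC _ hc
  ordD := fun c hc => by
    rw [← orderOf_injective e.symm.toMonoidHom e.symm.injective c]
    exact h.ordD _ hc
  neC := by
    obtain ⟨c, hc⟩ := h.neC
    exact ⟨e c, by rw [Set.mem_preimage, e.symm_apply_apply]; exact hc⟩
  neD := by
    obtain ⟨c, hc⟩ := h.neD
    exact ⟨e c, by rw [Set.mem_preimage, e.symm_apply_apply]; exact hc⟩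
  normal := inferInstance
  simple := by
    have h1 := h.simple
    have h2 : IsSimpleGroup K := (Subgroup.topEquiv (G := K)).symm.isSimpleGroup
    have h3 : IsSimpleGroup K' := e.symm.isSimpleGroup
    exact (Subgroup.topEquiv (G := K')).isSimpleGroup
  nc := by
    intro hc
    apply h.nc
    refine ⟨⟨fun a b => Subtype.ext (e.injective ?_)⟩⟩
    have h1 := congrArg Subtype.val (hc.is_comm.comm (⟨e a, mem_top _⟩ : (⊤ : Subgroup K')) ⟨e b, mem_top _⟩)
    rw [Subgroup.coe_mul, map_mul, Subgroup.coe_mul, map_mul]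
    exact h1
  dvd := by
    rw [Subgroup.card_top, ← Nat.card_congr e.toEquiv]
    have h1 := h.dvd
    rwa [Subgroup.card_top] at h1
  cent := by
    have h1 := h.cent
    rw [eq_bot_iff]
    intro x hx
    have h2 : e.symm x ∈ Subgroup.centralizer ((⊤ : Subgroup K) : Set K) := by
      rw [Subgroup.mem_centralizer_iff]
      intro y _
      apply e.injective
      have h3 := (Subgroup.mem_centralizer_iff.1 hx) (e y) (Subgroup.mem_top _)
      rw [map_mul, map_mul, e.apply_symm_apply]
      exact h3
    rw [h1, Subgroup.mem_bot] at h2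
    rw [Subgroup.mem_bot, ← e.apply_symm_apply x, h2, map_one]
  ih := by
    intro X _ _ hX
    obtain ⟨Y, _, _, ⟨f⟩⟩ := exists_copy.{u, v} X
    refine Thm.congr f (h.ih Y ?_)
    rw [Nat.card_congr f.toEquiv, Nat.card_congr e.toEquiv]
    exact hX

theorem IRow.congr {p : ℕ} {K : Type u} {K' : Type v} [Group K] [Group K'] [Finite K] (e : K ≃* K')
    (h : IRow p K') : IRow p K := fun _ _ hcfg => h _ _ (cfg_map e hcfg)

/-- The row for `K` from the inner row for an isomorphic group in any universe. -/
theorem ARow.of_equiv {p : ℕ} {K : Type u} {K' : Type v} [Group K] [Group K'] [Finite K]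
    (e : K ≃* K') (hout : ∀ a : MulAut K, orderOf a = p → a ∈ (MulAut.conj : K →* MulAut K).range)
    (h : IRow p K') : ARow p K := ARow.of_inner hout (IRow.congr e h)

end Cfsg.Agent.H963.Wf
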