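import Cfsg.Agent.H963.Wf.Congr
import Cfsg.Agent.H711.FiEven
import Cfsg.Agent.CTwoTab.FiTF
import Cfsg.Agent.KFacts.FiTF.SheetF
import Cfsg.Agent.BpSpor.Inn.Fi24

/-!
# S3826, `p = 3`: the row `Fi24'`

An element of order 3 of `Fi24'` commutes with an involution (H711.FiEven), so it fixes two commuting transpositions
or commutes with a conjugate of the 2-central involution `z0`. For a configuration `c ∈ C`, `d ∈ D`:

* both fix a transposition: `Fi23` (KM);
* both commute with `z0`: `R0 = O₂(C(z0))`, `R0/⟨z0⟩` irreducible (K1);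
* `c` fixes no transposition: by Benson's lemma some transposition `t` commutes with `t ^ c ≠ t`; `d` fixes a commuting
  pair: K2.
-/

set_option autoImplicit false
set_option linter.unusedSectionVars false

namespace Cfsg.Agent.H963.Wf.Fi24

open Subgroup Cfsg Cfsg.Spor Cfsg.Agent.H533.Wf Cfsg.Agent.H533.T5
open Cfsg.Agent.R08 Cfsg.Agent.R08.FiTwentyFour Cfsg.Agent.R01
open Cfsg.Agent.Fischer Cfsg.Agent.Fischer.Abstract Cfsg.Agent.LThreeM.SrgFix Cfsg.Agent.CTwoTab.FiTF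
open Cfsg.Agent.H711.FiEven (nb_card cn_card cb_card)
open Cfsg.Agent.Fischer.Fi24Class (gen)

/-! ### Benson's lemma -/

/-- An element of order 3 without fixed transpositions moves some transposition to a commuting one. -/
theorem exists_adj {g : Fi24} (hg : g ^ 3 = 1) (hno : ∀ a ∈ L, ¬ Commute g a) :
    ∃ t ∈ L, Commute t (g * t * g⁻¹) ∧ Commute t (g⁻¹ * t * g) ∧
      Commute (g * t * g⁻¹) (g⁻¹ * t * g) ∧ t ≠ g * t * g⁻¹ ∧ t ≠ g⁻¹ * t * g ∧
      g * t * g⁻¹ ≠ g⁻¹ * t * g := by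
  have := finite_Fi24
  obtain ⟨R, -, -, hR⟩ := facts.exists_rank3
  have hfin : Finite (Fi24 ⧸ Fi24RepOrb.H) := inferInstance
  obtain ⟨z, hz⟩ := count R (nb_card R hR) (cn_card R hR) (cb_card R hR) (s := -81) (by norm_num)
    (by norm_num) (n := 3) (by norm_num) hg
  have hF : {x | g • x = x} = (∅ : Set (Fi24 ⧸ Fi24RepOrb.H)) := by
    rw [Set.eq_empty_iff_forall_notMem]
    intro x hx
    exact hno (R.t x) (hR ▸ ⟨x, rfl⟩) ((R.smul_eq_iff_comm g x).1 hx)
  have hM : ({x | Adj R x (g • x)} : Set (Fi24 ⧸ Fi24RepOrb.H)).Nonempty := by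
    rw [Set.nonempty_iff_ne_empty]
    intro hM
    rw [hF, hM, Set.ncard_empty] at hz
    push_cast at hz
    omega
  obtain ⟨x, hx⟩ := hM
  have h3 : g⁻¹ = g * g := by
    rw [inv_eq_iff_mul_eq_one, ← mul_assoc, ← hg, pow_three, mul_assoc]
  have e1 : R.t (g • x) = g * R.t x * g⁻¹ := R.map_smul g x
  have e2 : R.t (g • g • x) = g⁻¹ * R.t x * g := by
    rw [R.map_smul, R.map_smul]
    have h4 : g = g⁻¹ * g⁻¹ := by rw [← mul_inv_rev, ← h3, inv_inv]
    calc g * (g * R.t x * g⁻¹) * g⁻¹ = (g * g) * R.t x * (g⁻¹ * g⁻¹) := by group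
      _ = g⁻¹ * R.t x * g := by rw [← h3, ← h4]
  obtain ⟨a1, a2, a3⟩ := H711.SrgEven.adj_all R hg hx
  refine ⟨R.t x, hR ▸ ⟨x, rfl⟩, ?_, ?_, ?_, ?_, ?_, ?_⟩
  · rw [← e1]; exact a1.2
  · rw [← e2]; exact a2.2
  · rw [← e1, ← e2]; exact a3.2
  · rw [← e1]; exact fun h => a1.1 (R.t_inj.1 h)
  · rw [← e2]; exact fun h => a2.1 (R.t_inj.1 h)
  · rw [← e1, ← e2]; exact fun h => a3.1 (R.t_inj.1 h)

/-! ### The involutions -/

theorem coe_cube {g : Spor.Fi24'} (hg : g ^ 3 = 1) : (g : Fi24) ^ 3 = 1 := by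
  rw [← SubgroupClass.coe_pow, hg]; rfl

/-- The two kinds of elements of order 3. -/
theorem cases3 {g : Spor.Fi24'} (hg : g ^ 3 = 1) :
    (∃ a ∈ L, ∃ b ∈ L, a ≠ b ∧ Commute a b ∧ Commute (g : Fi24) a ∧ Commute (g : Fi24) b) ∨
      ∃ h : Spor.Fi24', Commute g (h * z0 * h⁻¹) := by
  have := finite_Fi24
  have hfin : Finite Spor.Fi24' := inferInstance
  have h1 := H711.FiEven.even_prime hg
  rw [Nat.not_odd_iff_even, even_iff_two_dvd] at h1
  have : Fact (Nat.Prime 2) := ⟨Nat.prime_two⟩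
  obtain ⟨t, ht⟩ := exists_prime_orderOf_dvd_card' 2 h1
  have ht2 : orderOf (t : Spor.Fi24') = 2 := by rw [Subgroup.orderOf_coe]; exact ht
  have htc : (t : Spor.Fi24') * g = g * t := mem_centralizer_singleton_iff.1 t.2
  rcases classes t ht2 with ⟨a, b, P, hab⟩ | ⟨h, hh⟩
  · left
    have hgc : g ∈ centralizer ({(t : Spor.Fi24')} : Set Spor.Fi24') :=
      mem_centralizer_singleton_iff.2 htc.symm
    refine ⟨a, P.ha, b, P.hb, P.ne, P.ab, ?_⟩
    rcases fix_or_swap P hab hgc with ⟨h2, h3⟩ | ⟨h2, h3⟩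
    · exact ⟨mul_inv_eq_iff_eq_mul.1 h2, mul_inv_eq_iff_eq_mul.1 h3⟩
    · exfalso
      apply P.ne
      have h4 : (g : Fi24) ^ 3 * a * ((g : Fi24) ^ 3)⁻¹ = b := by
        calc (g : Fi24) ^ 3 * a * ((g : Fi24) ^ 3)⁻¹ =
            g * (g * (g * a * (g : Fi24)⁻¹) * (g : Fi24)⁻¹) * (g : Fi24)⁻¹ := by
              rw [pow_three]; group
          _ = b := by rw [h2, h3, h2]
      rw [coe_cube hg, one_mul, inv_one, mul_one] at h4
      exact h4
  · right
    exact ⟨h, by rw [← hh]; exact htc.symm⟩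

section cfg

variable {C D : Set Spor.Fi24'}

/-! ### K2 -/

/-- `x` commutes with all conjugates of `y ≠ 1` in a simple group. -/
theorem center_of_comm {S : Type*} [Group S] [IsSimpleGroup S] {x y : S} (hy : y ≠ 1)
    (h : ∀ g : S, Commute x (g * y * g⁻¹)) : x ∈ center S := by
  have h1 : normalClosure ({y} : Set S) = ⊤ := by
    rcases (normalClosure_normal (s := ({y} : Set S))).eq_bot_or_eq_top with h2 | h2
    · exfalso
      apply hy
      have h3 := subset_normalClosure (Set.mem_singleton y)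
      rw [h2] at h3
      exact h3
    · exact h2
  have h2 : normalClosure ({y} : Set S) ≤ centralizer ({x} : Set S) := by
    rw [normalClosure, closure_le]
    intro z hz
    obtain ⟨w, hw, hwz⟩ := Group.mem_conjugatesOfSet_iff.1 hz
    rw [Set.mem_singleton_iff.1 hw] at hwz
    obtain ⟨g, rfl⟩ := isConj_iff.1 hwz
    exact mem_centralizer_singleton_iff.2 (h g).eq.symm
  rw [mem_center_iff]
  intro g
  have h3 : g ∈ centralizer ({x} : Set S) := h2 (h1 ▸ mem_top g)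
  exact mem_centralizer_singleton_iff.1 h3

/-- the centralizer of an element of `Fi24` in `Fi24'` -/
def Ct (a : Fi24) : Subgroup Spor.Fi24' := (centralizer ({a} : Set Fi24)).comap (commutator Fi24).subtype

theorem mem_Ct {a : Fi24} {x : Spor.Fi24'} : x ∈ Ct a ↔ Commute (x : Fi24) a := by
  show (x : Fi24) ∈ centralizer ({a} : Set Fi24) ↔ _
  rw [mem_centralizer_singleton_iff]
  exact Iff.rfl

theorem conj_mem_Ct {a : Fi24} {x g : Spor.Fi24'} :
    g * x * g⁻¹ ∈ Ct a ↔ x ∈ Ct ((g : Fi24)⁻¹ * a * g) := by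
  rw [mem_Ct, mem_Ct]
  have e : ((g * x * g⁻¹ : Spor.Fi24') : Fi24) = (g : Fi24) * x * (g : Fi24)⁻¹ := rfl
  rw [e]
  constructor
  · intro h
    have h1 := h.eq
    show (x : Fi24) * ((g : Fi24)⁻¹ * a * g) = (g : Fi24)⁻¹ * a * g * x
    calc (x : Fi24) * ((g : Fi24)⁻¹ * a * g) = (g : Fi24)⁻¹ * ((g : Fi24) * x * (g : Fi24)⁻¹ * a) * g := by
          group
      _ = (g : Fi24)⁻¹ * (a * ((g : Fi24) * x * (g : Fi24)⁻¹)) * g := by rw [h1]
      _ = (g : Fi24)⁻¹ * a * g * x := by group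
  · intro h
    have h1 : (x : Fi24) * ((g : Fi24)⁻¹ * a * g) = (g : Fi24)⁻¹ * a * g * x := h
    show (g : Fi24) * x * (g : Fi24)⁻¹ * a = a * ((g : Fi24) * x * (g : Fi24)⁻¹)
    calc (g : Fi24) * x * (g : Fi24)⁻¹ * a = g * ((x : Fi24) * ((g : Fi24)⁻¹ * a * g)) * (g : Fi24)⁻¹ := by
          group
      _ = g * ((g : Fi24)⁻¹ * a * g * x) * (g : Fi24)⁻¹ := by rw [h1]
      _ = a * ((g : Fi24) * x * (g : Fi24)⁻¹) := by group

theorem false_of_pair (h : Cfg 3 (⊤ : Subgroup Spor.Fi24') C D) {c d : Spor.Fi24'} (hc : c ∈ C)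
    (hd : d ∈ D) (hno : ∀ a ∈ L, ¬ Commute (c : Fi24) a) {a b : Fi24} (ha : a ∈ L) (hb : b ∈ L)
    (hne : a ≠ b) (hab : Commute a b) (hda : Commute (d : Fi24) a) (hdb : Commute (d : Fi24) b) :
    False := by
  have := finite_Fi24
  have hfin : Finite Spor.Fi24' := inferInstance
  have hp3 : Fact (Nat.Prime 3) := ⟨Nat.prime_three⟩
  have hc3 : (c : Fi24) ^ 3 = 1 := coe_cube (by rw [← h.ordC c hc, pow_orderOf_eq_one])
  obtain ⟨t, ht, htu, htv, huv, ntu, ntv, nuv⟩ := exists_adj hc3 hno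
  set u : Fi24 := (c : Fi24) * t * (c : Fi24)⁻¹ with hu
  set v : Fi24 := (c : Fi24)⁻¹ * t * (c : Fi24) with hv
  have huL : u ∈ L := FiTwentyFour.conj ht _
  have hvL : v ∈ L := by
    have := FiTwentyFour.conj ht (c : Fi24)⁻¹
    rwa [inv_inv] at this
  obtain ⟨g, hg, hgu, hgv⟩ := trans2 ha hb huL hvL hne hab nuv huv
  let g' : Spor.Fi24' := ⟨g, hg⟩
  set d' : Spor.Fi24' := g' * d * g'⁻¹ with hd'
  have hd'D : d' ∈ D := h.conjD g' d hd
  have key0 : ∀ {x y w : Fi24}, g * x * g⁻¹ = y → Commute w x → Commute (g * w * g⁻¹) y := by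
    intro x y w hxy hw
    rw [← hxy]
    show g * w * g⁻¹ * (g * x * g⁻¹) = g * x * g⁻¹ * (g * w * g⁻¹)
    calc g * w * g⁻¹ * (g * x * g⁻¹) = g * (w * x) * g⁻¹ := by group
      _ = g * (x * w) * g⁻¹ := by rw [hw.eq]
      _ = _ := by group
  have hd'u : Commute (d' : Fi24) u := key0 hgu hda
  have hd'v : Commute (d' : Fi24) v := key0 hgv hdb
  -- all conjugates of `d'` under `Cab u v` commute with `t`
  have key : ∀ k : Spor.Fi24', Commute (k : Fi24) u → Commute (k : Fi24) v →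
      Commute ((k * d' * k⁻¹ : Spor.Fi24') : Fi24) t := by
    intro k hku hkv
    have h1 : Commute ((k * d' * k⁻¹ : Spor.Fi24') : Fi24) u :=
      (hku.mul_left hd'u).mul_left hku.inv_left
    have h2 : Commute ((k * d' * k⁻¹ : Spor.Fi24') : Fi24) v :=
      (hkv.mul_left hd'v).mul_left hkv.inv_left
    refine mem_Ct.1 (h.key3 (K₁ := Ct t) hc (h.conjD k d' hd'D) ?_ ?_)
    · rw [conj_mem_Ct]
      exact mem_Ct.2 h2
    · have h3 : c⁻¹ * (k * d' * k⁻¹) * c = c⁻¹ * (k * d' * k⁻¹) * (c⁻¹)⁻¹ := by rw [inv_inv]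
      rw [h3, conj_mem_Ct, mem_Ct]
      have h4 : ((c⁻¹ : Spor.Fi24') : Fi24)⁻¹ * t * ((c⁻¹ : Spor.Fi24') : Fi24) = u := by
        show ((c : Fi24)⁻¹)⁻¹ * t * (c : Fi24)⁻¹ = u
        rw [inv_inv]
      rw [h4]
      exact h1
  -- in `Fi22`
  obtain ⟨P⟩ := TetFi24A.exists_at huL hvL nuv huv
  have hFi : IsSimpleGroup Fi22 := Cfsg.Agent.S1696.result.1
  have hsgn : ∀ x : Spor.Fi24', Fi24Final.sgn (x : Fi24) = 1 := fun x => mem_commutator_iff.1 x.2
  have hd'C : (d' : Fi24) ∈ Cab u v := mem_Cab.2 ⟨hsgn d', hd'u, hd'v⟩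
  have heC : u * t ∈ Cab u v := mul_mem_Cab huL ht huv htu htv
  have hd1 : d' ≠ 1 := h.symm.ne_one hd'D
  have hker := P.lift.ext.ker
  have hπd : P.π ⟨d', hd'C⟩ ≠ 1 := by
    intro h1
    rw [hker] at h1
    rcases h1 with h1 | h1
    · exact hd1 (Subtype.ext (congrArg (fun z : Cab u v => (z : Fi24)) h1))
    · have h2 : (d' : Fi24) = u * v := by rw [← P.hz, ← h1]
      have h3 : (d' : Fi24) * d' = 1 := by
        rw [h2, mul_assoc, ← mul_assoc v, ← huv.eq, mul_assoc u v, FiTwentyFour.sq hvL, mul_one,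
          FiTwentyFour.sq huL]
      have h4 : (d' : Fi24) ^ 3 = 1 := coe_cube (by rw [← h.ordD d' hd'D, pow_orderOf_eq_one])
      rw [pow_three, h3, mul_one] at h4
      exact hd1 (Subtype.ext h4)
  have hcen : P.π ⟨u * t, heC⟩ ∈ center Fi22 := by
    refine center_of_comm hπd fun x => ?_
    obtain ⟨k, rfl⟩ := P.lift.ext.surj x
    obtain ⟨k1, k2, k3⟩ := mem_Cab.1 k.2
    let k' : Spor.Fi24' := ⟨(k : Fi24), mem_commutator_iff.2 k1⟩
    have h1 := key k' k2 k3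
    have h2 : Commute ((k' * d' * k'⁻¹ : Spor.Fi24') : Fi24) u :=
      ((show Commute (k' : Fi24) u from k2).mul_left hd'u).mul_left
        (show Commute (k' : Fi24) u from k2).inv_left
    have h3 : Commute (u * t) ((k : Fi24) * d' * (k : Fi24)⁻¹) := (h2.mul_right h1).symm
    have h4 : (⟨u * t, heC⟩ : Cab u v) * (k * ⟨d', hd'C⟩ * k⁻¹) =
        (k * ⟨d', hd'C⟩ * k⁻¹) * ⟨u * t, heC⟩ := Subtype.ext h3.eq
    show P.π ⟨u * t, heC⟩ * (P.π k * P.π ⟨d', hd'C⟩ * (P.π k)⁻¹) = _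
    rw [← map_mul, ← map_inv, ← map_mul, ← map_mul, h4, map_mul]
  rw [center_Fi22, mem_bot, hker] at hcen
  rcases hcen with h1 | h1
  · have h2 : u * t = 1 := congrArg Subtype.val h1
    apply ntu
    rw [mul_eq_one_iff_eq_inv] at h2
    have h3 : t⁻¹ = t := inv_eq_of_mul_eq_one_left (FiTwentyFour.sq ht)
    rw [h3] at h2
    exact h2.symm
  · have h2 : u * t = u * v := by rw [← P.hz, ← h1]
    exact ntv (mul_left_cancel h2)

/-! ### KM -/

theorem trans1 {a b : Fi24} (ha : a ∈ L) (hb : b ∈ L) : ∃ g : Spor.Fi24', (g : Fi24) * a * (g : Fi24)⁻¹ = b := by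
  obtain ⟨x, hx⟩ := isConj_iff.1 (IsConj.trans (IsConj.symm (show IsConj (gen .l) a from ha)) hb)
  by_cases h : x ∈ commutator Fi24
  · exact ⟨⟨x, h⟩, hx⟩
  · have h1 : x * a ∈ commutator Fi24 :=
      (Subgroup.mul_mem_iff_of_index_two index_commutator).2
        ⟨fun h2 => absurd h2 h, fun h2 => absurd h2 (FiTwentyFour.odd ha)⟩
    refine ⟨⟨x * a, h1⟩, ?_⟩
    show x * a * a * (x * a)⁻¹ = b
    rw [← hx]
    group

theorem ct_simple : IsSimpleGroup (Ct (gen .l)) ∧ ¬ IsMulCommutative (Ct (gen .l)) := by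
  have hφ : ∀ k, facts.phi k ∈ commutator Fi24 := fun k => mem_commutator_iff.2 (facts.sgn_phi k)
  let f : Fi23 →* Ct (gen .l) :=
    { toFun := fun k => ⟨⟨facts.phi k, hφ k⟩, mem_Ct.2 (facts.phi_comm k)⟩
      map_one' := by apply Subtype.ext; apply Subtype.ext; exact map_one _
      map_mul' := fun x y => by apply Subtype.ext; apply Subtype.ext; exact map_mul _ _ _ }
  have hf : Function.Bijective f := by
    constructor
    · intro x y hxy
      exact facts.phi_injective (congrArg (fun z : Ct (gen .l) => ((z : Spor.Fi24') : Fi24)) hxy)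
    · rintro ⟨x, hx⟩
      obtain ⟨k, hk⟩ := (facts.mem_range_iff (x : Fi24)).2 ⟨mem_Ct.1 hx, mem_commutator_iff.1 x.2⟩
      exact ⟨k, Subtype.ext (Subtype.ext hk)⟩
  let e : Fi23 ≃* Ct (gen .l) := MulEquiv.ofBijective f hf
  have hs : IsSimpleGroup Fi23 := Cfsg.Agent.S1697.result.1
  refine ⟨e.symm.isSimpleGroup, fun hc => ?_⟩
  have h1 : ∀ x y : Fi23, x * y = y * x := fun x y => e.injective (by
    rw [map_mul, map_mul]; exact hc.is_comm.comm _ _)
  have : Finite Fi23 := Nat.finite_of_card_ne_zero (by rw [Cfsg.Agent.S1697.result.2]; norm_num)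
  have h2 : IsMulCommutative (⊤ : Subgroup Fi23) := ⟨⟨fun a b => Subtype.ext (h1 a b)⟩⟩
  let _ : CommGroup Fi23 := { (inferInstance : Group Fi23) with mul_comm := h1 }
  have h3 := IsSimpleGroup.prime_card (α := Fi23)
  rw [Cfsg.Agent.S1697.result.2] at h3
  revert h3
  norm_num

theorem false_of_fix (h : Cfg 3 (⊤ : Subgroup Spor.Fi24') C D) {c d : Spor.Fi24'} (hc : c ∈ C)
    (hd : d ∈ D) {a b : Fi24} (ha : a ∈ L) (hb : b ∈ L) (hca : Commute (c : Fi24) a)
    (hdb : Commute (d : Fi24) b) : False := by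
  have := finite_Fi24
  have hfin : Finite Spor.Fi24' := inferInstance
  have : Fact (Nat.Prime 3) := ⟨Nat.prime_three⟩
  have hl : gen .l ∈ L := IsConj.refl _
  have key : ∀ {x : Spor.Fi24'} {w : Fi24}, w ∈ L → Commute (x : Fi24) w →
      ∃ g : Spor.Fi24', g * x * g⁻¹ ∈ Ct (gen .l) := by
    intro x w hw hxw
    obtain ⟨g, hg⟩ := trans1 hw hl
    refine ⟨g, ?_⟩
    rw [conj_mem_Ct, mem_Ct, ← hg]
    have e : (g : Fi24)⁻¹ * ((g : Fi24) * w * (g : Fi24)⁻¹) * g = w := by group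
    rw [e]
    exact hxw
  obtain ⟨g, hg⟩ := key ha hca
  obtain ⟨k, hk⟩ := key hb hdb
  obtain ⟨hs, hnc⟩ := ct_simple
  have hcen : ∀ x : Spor.Fi24', x ∈ Ct (gen .l) → x ∈ centralizer ((Ct (gen .l) : Subgroup _) : Set Spor.Fi24') →
      x = 1 := by
    intro x hx hxc
    have h1 : (⟨x, hx⟩ : Ct (gen .l)) ∈ center (Ct (gen .l)) := by
      rw [mem_center_iff]
      intro y
      exact Subtype.ext (mem_centralizer_iff.1 hxc y y.2)
    rcases (inferInstance : (center (Ct (gen .l))).Normal).eq_bot_or_eq_top with h2 | h2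
    · rw [h2, mem_bot] at h1
      exact congrArg Subtype.val h1
    · exfalso
      apply hnc
      refine ⟨⟨fun p q => ?_⟩⟩
      have h3 : q ∈ center (Ct (gen .l)) := by rw [h2]; exact mem_top _
      exact mem_center_iff.1 h3 p
  have hH : Ct (gen .l) ≠ ⊤ := by
    intro h1
    -- then `l` is central
    have h2 : ∀ x : Spor.Fi24', Commute (x : Fi24) (gen .l) := fun x => mem_Ct.1 (h1 ▸ mem_top x)
    obtain ⟨m, hm⟩ := trans1 hl (gen_mem_L .a)
    have h3 := (h2 m).eq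
    rw [h3, mul_inv_cancel_right] at hm
    exact Fi24Class.a_ne_l facts.card_ne hm.symm
  refine h.false_of_normal hH le_rfl le_normalizer (QS.of_simple hs hnc) (h.conjC g c hc)
    (h.conjD k d hd) hg hk ?_ ?_
  · intro h1
    exact h.ne_one (h.conjC g c hc) (hcen _ hg h1)
  · intro h1
    exact h.symm.ne_one (h.conjD k d hd) (hcen _ hk h1)

/-! ### K1 -/

theorem order_z0 {x : Spor.Fi24'} (hx : orderOf x = 3) : ¬ (x = 1 ∨ x = z0) := by
  have hz : z0 * z0 = 1 := KFacts.FiTF.sheetE.zz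
  rintro (rfl | rfl)
  · rw [orderOf_one] at hx; omega
  · have h1 : orderOf z0 ∣ 2 := orderOf_dvd_of_pow_eq_one (by rw [pow_two]; exact hz)
    rw [hx] at h1
    omega

theorem false_of_z0 (h : Cfg 3 (⊤ : Subgroup Spor.Fi24') C D) {c d : Spor.Fi24'} (hc : c ∈ C)
    (hd : d ∈ D) (hcz : Commute c z0) (hdz : Commute d z0) : False := by
  have := finite_Fi24
  have hfin : Finite Spor.Fi24' := inferInstance
  have : Fact (Nat.Prime 3) := ⟨Nat.prime_three⟩
  have hR : (Nat.card R0).Coprime 3 := by rw [R0_card]; norm_num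
  have hN : ∀ x : Spor.Fi24', Commute x z0 → x ∈ normalizer ((R0 : Subgroup Spor.Fi24') : Set Spor.Fi24') := by
    intro x hx
    rw [mem_normalizer_iff]
    intro r
    refine ⟨R0_norm x (mem_centralizer_singleton_iff.2 hx.eq) r, fun h1 => ?_⟩
    have h2 := R0_norm x⁻¹ (mem_centralizer_singleton_iff.2 hx.inv_left.eq) _ h1
    have e : x⁻¹ * (x * r * x⁻¹) * (x⁻¹)⁻¹ = r := by group
    rwa [e] at h2
  -- the commutators
  let T : Set Spor.Fi24' := {y | ∃ r ∈ R0, ∃ k : Spor.Fi24', Commute k z0 ∧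
    y = r⁻¹ * (k * d * k⁻¹ * r * (k * d * k⁻¹)⁻¹)}
  have hconjz : ∀ k : Spor.Fi24', Commute k z0 → Commute (k * d * k⁻¹) z0 := fun k hk =>
    (hk.mul_left hdz).mul_left hk.inv_left
  have hT1 : ∀ y ∈ T, Commute c y := by
    rintro y ⟨r, hr, k, hk, rfl⟩
    exact h.commute_comm hR hc (h.conjD k d hd) (hN c hcz) (hN _ (hconjz k hk)) hr
  have hT2 : ∀ y ∈ T, y ∈ R0 := by
    rintro y ⟨r, hr, k, hk, rfl⟩
    exact mul_mem (inv_mem hr) (R0_norm _ (mem_centralizer_singleton_iff.2 (hconjz k hk).eq) r hr)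
  have hT3 : ∀ x : Spor.Fi24', Commute x z0 → ∀ y ∈ T, x * y * x⁻¹ ∈ T := by
    rintro x hx y ⟨r, hr, k, hk, rfl⟩
    refine ⟨x * r * x⁻¹, R0_norm x (mem_centralizer_singleton_iff.2 hx.eq) r hr, x * k,
      hx.mul_left hk, ?_⟩
    group
  let B : Subgroup Spor.Fi24' := closure T
  have hB1 : B ≤ R0 := (closure_le _).2 hT2
  have hB2 : ∀ x : Spor.Fi24', Commute x z0 → ∀ b ∈ B, x * b * x⁻¹ ∈ B := by
    intro x hx b hb
    have h1 : B ≤ B.comap (MulAut.conj x).toMonoidHom := by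
      refine (closure_le _).2 fun y hy => ?_
      exact subset_closure (hT3 x hx y hy)
    exact h1 hb
  have hB3 : ∀ b ∈ B, Commute c b := by
    intro b hb
    have h1 : B ≤ centralizer ({c} : Set Spor.Fi24') := by
      refine (closure_le _).2 fun y hy => ?_
      exact mem_centralizer_singleton_iff.2 (hT1 y hy).eq.symm
    exact (mem_centralizer_singleton_iff.1 (h1 hb)).symm
  rcases KFacts.FiTF.sheetE.Rmin B hB1 (fun x hx b hb => hB2 x (KFacts.FiTF.sheetE.cen x hx) b hb) with h1 | h1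
  · -- `d` centralizes `R0`
    have hzz : z0 * z0 = 1 := KFacts.FiTF.sheetE.zz
    have key : ∀ r ∈ R0, d * r = r * d := by
      intro r hr
      have h2 : r⁻¹ * (d * r * d⁻¹) ∈ B := subset_closure ⟨r, hr, 1, Commute.one_left _, by group⟩
      rcases h1 _ h2 with h3 | h3
      · rw [inv_mul_eq_one] at h3
        exact (mul_inv_eq_iff_eq_mul.1 h3.symm)
      · exfalso
        -- `d r d⁻¹ = r z0`
        have h4 : d * r * d⁻¹ = r * z0 := by rw [← inv_mul_eq_iff_eq_mul]; exact h3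
        have hdz' : d * z0 * d⁻¹ = z0 := mul_inv_eq_iff_eq_mul.2 hdz.eq
        have h5 : d ^ 3 * r * (d ^ 3)⁻¹ = r * z0 := by
          calc d ^ 3 * r * (d ^ 3)⁻¹ = d * (d * (d * r * d⁻¹) * d⁻¹) * d⁻¹ := by rw [pow_three]; group
            _ = d * (d * (r * z0) * d⁻¹) * d⁻¹ := by rw [h4]
            _ = d * ((d * r * d⁻¹) * (d * z0 * d⁻¹)) * d⁻¹ := by group
            _ = d * (r * z0 * z0) * d⁻¹ := by rw [h4, hdz']
            _ = d * r * d⁻¹ := by rw [mul_assoc r, hzz, mul_one]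
            _ = r * z0 := h4
        have h6 : d ^ 3 = 1 := by rw [← h.ordD d hd, pow_orderOf_eq_one]
        rw [h6, one_mul, inv_one, mul_one] at h5
        have h7 : z0 = 1 := by
          have := mul_left_cancel (h5.symm.trans (mul_one r).symm)
          exact this
        exact KFacts.FiTF.sheetE.z1 h7
    exact order_z0 (h.ordD d hd) (R0_cent d key)
  · -- `c` centralizes `R0`
    have key : ∀ r ∈ R0, c * r = r * c := fun r hr => (hB3 r (by rw [h1]; exact hr)).eq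
    exact order_z0 (h.ordC c hc) (R0_cent c key)

end cfg

/-- **The inner row.** -/
theorem irow : IRow 3 Spor.Fi24' := by
  intro C D h
  have main : ∀ {C D : Set Spor.Fi24'}, Cfg 3 (⊤ : Subgroup Spor.Fi24') C D → ∀ c ∈ C, ∀ d ∈ D,
      (∃ a ∈ L, ∃ b ∈ L, a ≠ b ∧ Commute a b ∧ Commute (d : Fi24) a ∧ Commute (d : Fi24) b) → False := by
    intro C D h c hc d hd ⟨a, ha, b, hb, hne, hab, hda, hdb⟩
    by_cases hfix : ∃ t ∈ L, Commute (c : Fi24) t
    · obtain ⟨t, ht, hct⟩ := hfix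
      exact false_of_fix h hc hd ht ha hct hda
    · push Not at hfix
      exact false_of_pair h hc hd hfix ha hb hne hab hda hdb
  obtain ⟨c, hc⟩ := h.neC
  obtain ⟨d, hd⟩ := h.neD
  have hc3 : c ^ 3 = 1 := by rw [← h.ordC c hc, pow_orderOf_eq_one]
  have hd3 : d ^ 3 = 1 := by rw [← h.ordD d hd, pow_orderOf_eq_one]
  rcases cases3 hd3 with hdp | ⟨k, hk⟩
  · exact main h c hc d hd hdp
  rcases cases3 hc3 with hcp | ⟨g, hg⟩
  · exact main h.symm d hd c hc hcp
  · have key : ∀ {x g : Spor.Fi24'}, Commute x (g * z0 * g⁻¹) → Commute (g⁻¹ * x * (g⁻¹)⁻¹) z0 := by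
      intro x g hx
      have h1 := hx.eq
      show g⁻¹ * x * (g⁻¹)⁻¹ * z0 = z0 * (g⁻¹ * x * (g⁻¹)⁻¹)
      calc g⁻¹ * x * (g⁻¹)⁻¹ * z0 = g⁻¹ * (x * (g * z0 * g⁻¹)) * g := by group
        _ = g⁻¹ * ((g * z0 * g⁻¹) * x) * g := by rw [h1]
        _ = z0 * (g⁻¹ * x * (g⁻¹)⁻¹) := by group
    exact false_of_z0 h (h.conjC g⁻¹ c hc) (h.conjD k⁻¹ d hd) (key hg) (key hk)

universe u

/-- **The row `Fi24'` of `SporThree`.** -/
theorem fi24 (K : Type u) [Group K] [Finite K] [IsSimpleGroup K] (hK : Spor.IsoFi24' K) : ARow 3 K := by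
  obtain ⟨e⟩ := hK
  refine ARow.of_equiv e (fun a ha => ?_) irow
  obtain ⟨g, hg⟩ := BpSpor.Inn.fi24 ⟨e⟩ 3 Nat.prime_three (by norm_num) a ha
  exact ⟨g, hg.symm⟩

end Cfsg.Agent.H963.Wf.Fi24
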